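import Mathlib.GroupTheory.Sylow
import Mathlib.GroupTheory.Index
import Mathlib.GroupTheory.QuotientGroup.Basic
import Mathlib.GroupTheory.Subgroup.Centralizer

/-!
p-elements whose class size is prime to p: they are conjugate into the centre of a Sylow subgroup.
-/

set_option autoImplicit false

namespace CfsgLib.SylowBasic

variable {G : Type*} [Group G]

/-- An element of `p`-power order centralizing a Sylow `p`-subgroup lies in it. -/
theorem mem_sylow_of_centralizes {p : ℕ} [Fact p.Prime] [Finite G] (P : Sylow p G) {z : G}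
    (hz : ∃ k : ℕ, orderOf z = p ^ k) (hc : z ∈ Subgroup.centralizer ((P : Subgroup G) : Set G)) :
    z ∈ (P : Subgroup G) := by
  obtain ⟨k, hk⟩ := hz
  have hZ : IsPGroup p (Subgroup.zpowers z) :=
    IsPGroup.of_card (n := k) (by rw [Nat.card_zpowers, hk])
  have hn : Subgroup.zpowers z ≤ Subgroup.normalizer ((P : Subgroup G) : Set G) := by
    rw [Subgroup.zpowers_le]
    exact Subgroup.centralizer_le_normalizer _ hc
  have h := P.3 (hZ.to_sup_of_normal_right' P.2 hn) le_sup_right
  rw [← h]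
  exact Subgroup.mem_sup_left (Subgroup.mem_zpowers z)

/-- A subgroup of index prime to `p` contains a Sylow `p`-subgroup. -/
theorem exists_sylow_le {p : ℕ} [Fact p.Prime] [Finite G] (C : Subgroup G) (hC : ¬ p ∣ C.index) :
    ∃ Q : Sylow p G, (Q : Subgroup G) ≤ C := by
  let R : Sylow p C := default
  obtain ⟨Q, hQ⟩ := ((R.2.map C.subtype)).exists_le_sylow
  refine ⟨Q, ?_⟩
  have hidx : ¬ p ∣ ((R : Subgroup C).map C.subtype).index := by
    rw [Subgroup.index_map_subtype]
    exact Nat.Prime.not_dvd_mul Fact.out R.not_dvd_index hC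
  obtain ⟨j, hj⟩ := Q.2.index (((R : Subgroup C).map C.subtype).subgroupOf Q)
  have h1 : ((R : Subgroup C).map C.subtype).relIndex (Q : Subgroup G) = 1 := by
    cases j with
    | zero => simpa [Subgroup.relIndex] using hj
    | succ j =>
      exfalso
      apply hidx
      rw [← Subgroup.relIndex_mul_index hQ]
      exact dvd_mul_of_dvd_left (by rw [Subgroup.relIndex, hj]; exact dvd_pow_self p j.succ_ne_zero) _
  exact (Subgroup.relIndex_eq_one.mp h1).trans (Subgroup.map_subtype_le _)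

/-- A `p`-element with class size prime to `p` is conjugate to an element of `P ∩ C(P)`. -/
theorem exists_conj_mem_centralizer {p : ℕ} [Fact p.Prime] [Finite G] (P : Sylow p G) (x : G)
    (hx : ∃ k : ℕ, orderOf x = p ^ k)
    (hcl : ¬ p ∣ (Subgroup.centralizer ({x} : Set G)).index) :
    ∃ g : G, g⁻¹ * x * g ∈ (P : Subgroup G) ∧
      g⁻¹ * x * g ∈ Subgroup.centralizer ((P : Subgroup G) : Set G) := by
  obtain ⟨Q, hQ⟩ := exists_sylow_le _ hcl
  obtain ⟨g, rfl⟩ := MulAction.exists_smul_eq G P Q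
  have hc : g⁻¹ * x * g ∈ Subgroup.centralizer ((P : Subgroup G) : Set G) := by
    rw [Subgroup.mem_centralizer_iff]
    intro z hz
    have hm : g * z * g⁻¹ ∈ Subgroup.centralizer ({x} : Set G) := by
      apply hQ
      rw [Sylow.coe_subgroup_smul, Subgroup.mem_pointwise_smul_iff_inv_smul_mem]
      have hz' : g⁻¹ * (g * z * g⁻¹) * g = z := by group
      show (MulAut.conj g)⁻¹ • (g * z * g⁻¹) ∈ (P : Subgroup G)
      rw [← map_inv, MulAut.smul_def, MulAut.conj_apply, inv_inv, hz']
      exact hz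
    rw [Subgroup.mem_centralizer_singleton_iff] at hm
    have h2 := congrArg (fun w => g⁻¹ * w * g) hm
    simpa [mul_assoc] using h2
  refine ⟨g, mem_sylow_of_centralizes P ?_ hc, hc⟩
  obtain ⟨k, hk⟩ := hx
  refine ⟨k, ?_⟩
  rw [← hk]
  exact (SemiconjBy.orderOf_eq g⁻¹ (by simp [SemiconjBy, mul_assoc])).symm

/-- If all `p`-elements have class size prime to `p` and the image of `P` modulo `N` is abelian,
then `P ⊆ (P ∩ C(P)) N`. -/
theorem exists_central_mul {p : ℕ} [Fact p.Prime] [Finite G] (P : Sylow p G) (N : Subgroup G)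
    [N.Normal] (hab : IsMulCommutative ((P : Subgroup G).map (QuotientGroup.mk' N)))
    (hcl : ∀ x : G, (∃ k : ℕ, orderOf x = p ^ k) →
      ¬ p ∣ (Subgroup.centralizer ({x} : Set G)).index)
    {x : G} (hx : x ∈ (P : Subgroup G)) :
    ∃ z ∈ (P : Subgroup G), z ∈ Subgroup.centralizer ((P : Subgroup G) : Set G) ∧
      z⁻¹ * x ∈ N := by
  have hxp : ∃ k : ℕ, orderOf x = p ^ k := by
    obtain ⟨k, hk⟩ := IsPGroup.iff_orderOf.mp P.2 ⟨x, hx⟩
    exact ⟨k, by simpa [← Subgroup.orderOf_coe] using hk⟩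
  obtain ⟨g, hg1, hg2⟩ := exists_conj_mem_centralizer P x hxp (hcl x hxp)
  have hf := QuotientGroup.mk'_surjective N
  set π := QuotientGroup.mk' N with hπ
  let P' : Sylow p (G ⧸ N) := P.mapSurjective hf
  have hP' : (P' : Subgroup (G ⧸ N)) = (P : Subgroup G).map π := Sylow.coe_mapSurjective hf P
  haveI : IsMulCommutative (P' : Subgroup (G ⧸ N)) := by rw [hP']; exact hab
  have hxP' : π x ∈ (P' : Subgroup (G ⧸ N)) := hP' ▸ Subgroup.mem_map_of_mem π hx
  have hyP' : π (g⁻¹ * x * g) ∈ (P' : Subgroup (G ⧸ N)) := hP' ▸ Subgroup.mem_map_of_mem π hg1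
  obtain ⟨n', hn', hconj⟩ := P'.conj_eq_normalizer_conj_of_mem (π x) (π g) hxP'
    (by rw [map_mul, map_mul, map_inv] at hyP'; exact hyP')
  obtain ⟨n, rfl⟩ := hf n'
  set K := (P' : Subgroup (G ⧸ N)).comap π with hK
  have hPK : (P : Subgroup G) ≤ K := fun a ha => by
    rw [hK, Subgroup.mem_comap, hP']
    exact Subgroup.mem_map_of_mem π ha
  have hnK : ((n • P : Sylow p G) : Subgroup G) ≤ K := by
    intro a ha
    rw [Sylow.coe_subgroup_smul, Subgroup.mem_pointwise_smul_iff_inv_smul_mem] at ha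
    have h1 : π (n⁻¹ * a * n) ∈ (P' : Subgroup (G ⧸ N)) := hPK (by simpa using ha)
    have h2 := (Subgroup.mem_normalizer_iff.mp hn' _).mp h1
    rw [hK, Subgroup.mem_comap]
    simpa [map_mul, map_inv, mul_assoc] using h2
  obtain ⟨t, ht⟩ := MulAction.exists_smul_eq K ((n • P).subtype hnK) (P.subtype hPK)
  simp_rw [Sylow.smul_subtype, Subgroup.smul_def, smul_smul] at ht
  have hm := Sylow.smul_eq_iff_mem_normalizer.mp (Sylow.subtype_injective ht)
  set y := g⁻¹ * x * g with hy
  refine ⟨((t : G) * n) * y * ((t : G) * n)⁻¹, (Subgroup.mem_normalizer_iff.mp hm _).mp hg1,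
    ?_, ?_⟩
  · rw [Subgroup.mem_centralizer_iff]
    intro a ha
    have ha' : ((t : G) * n)⁻¹ * a * ((t : G) * n) ∈ (P : Subgroup G) := by
      rw [Subgroup.mem_normalizer_iff.mp hm]
      have e : (t : G) * n * (((t : G) * n)⁻¹ * a * ((t : G) * n)) * ((t : G) * n)⁻¹ = a := by group
      exact (by rw [e]; exact ha)
    have h3 := Subgroup.mem_centralizer_iff.mp hg2 _ ha'
    have h4 := congrArg (fun w => ((t : G) * n) * w * ((t : G) * n)⁻¹) h3
    simpa [mul_assoc] using h4
  · rw [← QuotientGroup.eq]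
    show π _ = π x
    have htP : π (t : G) ∈ (P' : Subgroup (G ⧸ N)) := t.2
    have hcomm : π (t : G) * π x = π x * π (t : G) :=
      congrArg Subtype.val (IsMulCommutative.is_comm.comm
        (⟨π (t : G), htP⟩ : (P' : Subgroup (G ⧸ N))) ⟨π x, hxP'⟩)
    have e : π y = (π n)⁻¹ * π x * π n := by simpa [hy, map_mul, map_inv] using hconj
    calc π ((t : G) * n * y * ((t : G) * n)⁻¹)
        = π (t : G) * π x * (π (t : G))⁻¹ := by
          simp only [map_mul, map_inv, e]; group
      _ = π x := by rw [hcomm, mul_inv_cancel_right]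

end CfsgLib.SylowBasic
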